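import Mathlib
import Groth.Agent.Lib.Helper3.CA.IntClSemi4
import Groth.Agent.Lib.Helper8.EssEt.TotFrac

set_option autoImplicit false
universe u
open scoped nonZeroDivisors

namespace Groth.Agent.H5.EssEtInt

section perPrime

variable (E : Type u) [CommRing E] [IsLocalRing E] [IsNoetherianRing E]
variable (n : Ideal (FractionRing E)) [hn : n.IsMaximal]

/-- Maximal ideals of the integral closure of `E` in its total ring of fractions lying above the
contraction of a given maximal ideal `n` of the total ring of fractions: finitely many. -/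
theorem finite_maximal_above :
    {M : Ideal (integralClosure E (FractionRing E)) |
      M.IsMaximal ∧ n.comap (algebraMap (integralClosure E (FractionRing E)) (FractionRing E)) ≤ M}.Finite := by
  classical
  let K := FractionRing E
  let R' := integralClosure E K
  let p : Ideal E := n.comap (algebraMap E K)
  haveI hp : p.IsPrime := Ideal.comap_isPrime _ _
  let An := E ⧸ p
  let Kn := K ⧸ n
  letI : Field Kn := Ideal.Quotient.field n
  let φ : An →+* Kn := Ideal.quotientMap n (algebraMap E K) le_rfl
  have hφinj : Function.Injective φ := Ideal.quotientMap_injective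
  letI : Algebra An Kn := φ.toAlgebra
  haveI : IsDomain An := Ideal.Quotient.isDomain p
  haveI : Nontrivial An := inferInstance
  haveI : IsLocalRing An :=
    IsLocalRing.of_surjective' (Ideal.Quotient.mk p) Ideal.Quotient.mk_surjective
  haveI : IsNoetherianRing An := inferInstance
  have hinjA : Function.Injective (algebraMap An Kn) := hφinj
  letI : Algebra (FractionRing An) Kn := (IsFractionRing.lift hinjA).toAlgebra
  haveI : IsScalarTower An (FractionRing An) Kn :=
    IsScalarTower.of_algebraMap_eq fun x => (IsFractionRing.lift_algebraMap hinjA x).symm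
  -- surjectivity of `Frac An → Kn`
  have hsurj : Function.Surjective (algebraMap (FractionRing An) Kn) := by
    intro z
    obtain ⟨z, rfl⟩ := Ideal.Quotient.mk_surjective z
    obtain ⟨e, s, rfl⟩ := IsLocalization.exists_mk'_eq E⁰ z
    have hs : (Ideal.Quotient.mk p (s : E)) ≠ 0 := by
      intro h0
      have h1 : (s : E) ∈ p := Ideal.Quotient.eq_zero_iff_mem.mp h0
      have h2 : algebraMap E K (s : E) ∈ n := h1
      have h3 : IsUnit (algebraMap E K (s : E)) := IsLocalization.map_units K s
      exact hn.ne_top (Ideal.eq_top_of_isUnit_mem _ h2 h3)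
    have hs' : algebraMap An (FractionRing An) (Ideal.Quotient.mk p (s : E)) ≠ 0 := by
      intro h0
      exact hs ((IsFractionRing.injective An (FractionRing An)) (by rw [h0, map_zero]))
    refine ⟨algebraMap An (FractionRing An) (Ideal.Quotient.mk p e) *
      (algebraMap An (FractionRing An) (Ideal.Quotient.mk p (s : E)))⁻¹, ?_⟩
    have hφ : ∀ x : E, algebraMap An Kn (Ideal.Quotient.mk p x) = Ideal.Quotient.mk n (algebraMap E K x) :=
      fun x => rfl
    have hsK : Ideal.Quotient.mk n (algebraMap E K (s : E)) ≠ 0 := by
      rw [← hφ]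
      intro h0
      exact hs (hinjA (by rw [h0, map_zero]))
    rw [map_mul, map_inv₀, ← IsScalarTower.algebraMap_apply, ← IsScalarTower.algebraMap_apply, hφ, hφ]
    rw [mul_inv_eq_iff_eq_mul₀ hsK, ← map_mul, IsLocalization.mk'_spec]
  haveI : FiniteDimensional (FractionRing An) Kn :=
    Module.Finite.of_surjective (Algebra.linearMap (FractionRing An) Kn) hsurj
  -- helper3's theorem
  have hfin := Groth.Agent.H3.IntClSemi.finite_maximal An Kn
  let Bn := integralClosure An Kn
  -- the ring hom `R' → Bn`
  have hmem : ∀ x : R', (Ideal.Quotient.mk n).comp (algebraMap R' K) x ∈ Bn := by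
    intro x
    have hx : IsIntegral E (x : K) := x.2
    exact IsIntegral.map_of_comp_eq (Ideal.Quotient.mk p) (Ideal.Quotient.mk n) rfl hx
  let ρ : R' →+* Bn := ((Ideal.Quotient.mk n).comp (algebraMap R' K)).codRestrict Bn hmem
  have hρint : ρ.IsIntegral := by
    have h1 : (algebraMap An Bn).IsIntegral := algebraMap_isIntegral_iff.mpr inferInstance
    have h2 : (Ideal.Quotient.mk p).IsIntegral :=
      RingHom.isIntegral_of_surjective _ Ideal.Quotient.mk_surjective
    have h3 : ((algebraMap An Bn).comp (Ideal.Quotient.mk p)).IsIntegral := RingHom.IsIntegral.trans _ _ h2 h1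
    have h4 : (algebraMap An Bn).comp (Ideal.Quotient.mk p) = ρ.comp (algebraMap E R') := by
      ext x
      rfl
    rw [h4] at h3
    exact RingHom.IsIntegral.tower_top _ _ h3
  letI : Algebra R' Bn := ρ.toAlgebra
  haveI : Algebra.IsIntegral R' Bn := algebraMap_isIntegral_iff.mp hρint
  have hker : RingHom.ker (algebraMap R' Bn) = n.comap (algebraMap R' K) := by
    ext x
    rw [RingHom.mem_ker, Ideal.mem_comap]
    constructor
    · intro h
      have h1 := congrArg (Subtype.val) h
      exact Ideal.Quotient.eq_zero_iff_mem.mp h1
    · intro h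
      apply Subtype.ext
      exact Ideal.Quotient.eq_zero_iff_mem.mpr h
  refine (hfin.image (fun Q => Q.comap (algebraMap R' Bn))).subset ?_
  rintro M ⟨hM, hle⟩
  haveI := hM
  obtain ⟨Q, hQ, hQM⟩ := Ideal.exists_ideal_over_maximal_of_isIntegral (S := Bn) M (hker ▸ hle)
  exact ⟨Q, hQ, hQM⟩

end perPrime

/-- The integral closure of a reduced Noetherian local ring in its total ring of fractions has
finitely many maximal ideals. -/
theorem finite_maximal_integralClosure (E : Type u) [CommRing E] [IsLocalRing E]
    [IsNoetherianRing E] [IsReduced E] :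
    {M : Ideal (integralClosure E (FractionRing E)) | M.IsMaximal}.Finite := by
  classical
  haveI : IsArtinianRing (FractionRing E) :=
    Groth.Agent.H8.EssEt.isArtinianRing_of_isFractionRing E (FractionRing E)
      (minimalPrimes.finite_of_isNoetherianRing E)
  have hcover : {M : Ideal (integralClosure E (FractionRing E)) | M.IsMaximal} ⊆
      ⋃ n : PrimeSpectrum (FractionRing E), {M : Ideal (integralClosure E (FractionRing E)) |
        M.IsMaximal ∧ n.asIdeal.comap
          (algebraMap (integralClosure E (FractionRing E)) (FractionRing E)) ≤ M} := by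
    intro M hM
    have hM' : M.IsMaximal := hM
    haveI := hM'.isPrime
    obtain ⟨P, hP, hPM⟩ := Ideal.exists_minimalPrimes_le (bot_le : (⊥ : Ideal _) ≤ M)
    obtain ⟨n, hn, hnP⟩ := Ideal.exists_comap_eq_of_mem_minimalPrimes_of_injective
      (f := algebraMap (integralClosure E (FractionRing E)) (FractionRing E))
      Subtype.val_injective P hP
    exact Set.mem_iUnion.mpr ⟨⟨n, hn⟩, hM, hnP ▸ hPM⟩
  refine (Set.finite_iUnion fun n => ?_).subset hcover
  haveI : n.asIdeal.IsMaximal := inferInstance
  exact finite_maximal_above E n.asIdeal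

end Groth.Agent.H5.EssEtInt
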