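import Mathlib
import Groth.Agent.Lib.Helper5.EssEtInt.EsA
import Groth.Agent.Lib.Helper8.EssEt.Main41
import Groth.Agent.Lib.Helper8.EssEt.Basic
import Groth.Agent.H4.SmRed

set_option autoImplicit false
universe u
open scoped nonZeroDivisors
open Polynomial IsLocalRing

namespace Groth.Agent.H5.EssEtInt

section basics

variable {A E : Type u} [CommRing A] [IsLocalRing A] [CommRing E] [Algebra A E]

theorem isNoetherianRing_of_essEtale [IsNoetherianRing A] (hE : EGA4loc.IsEssentiallyEtale A E) :
    IsNoetherianRing E := by
  obtain ⟨C, _, _, q, _, hC, hq, ⟨e⟩⟩ := hE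
  haveI : IsNoetherianRing C := Algebra.FiniteType.isNoetherianRing A C
  haveI : IsNoetherianRing (Localization.AtPrime q) :=
    IsLocalization.isNoetherianRing q.primeCompl _ inferInstance
  exact isNoetherianRing_of_ringEquiv _ e.symm.toRingEquiv

theorem isReduced_of_essEtale [IsReduced A] (hE : EGA4loc.IsEssentiallyEtale A E) :
    IsReduced E := by
  obtain ⟨C, _, _, q, _, hC, hq, ⟨e⟩⟩ := hE
  haveI : IsReduced C := Groth.Agent.H4.SmRed.isReduced_of_smooth A C
  haveI : IsReduced (Localization.AtPrime q) :=
    isReduced_localizationPreserves q.primeCompl _ inferInstance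
  exact isReduced_of_injective e.toRingEquiv.toRingHom e.injective

end basics

section inv

variable (A E : Type u) [CommRing A] [IsReduced A] [CommRing E] [Algebra A E]
  [Module.Flat A E] [Algebra.EssFiniteType A E] [Algebra.FormallyUnramified A E]

/-- Elements of the total ring of fractions of `E` have denominators from `A`. -/
theorem exists_mul_eq (hmin : (minimalPrimes A).Finite) (c : FractionRing E) :
    ∃ s ∈ A⁰, ∃ e : E, c * algebraMap A (FractionRing E) s = algebraMap E (FractionRing E) e := by
  haveI := Groth.Agent.H8.EssEt.isLocalization_fractionRing A E hmin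
  obtain ⟨⟨e, ⟨t, s, hs, rfl⟩⟩, h⟩ :=
    IsLocalization.surj (Algebra.algebraMapSubmonoid E A⁰) c
  refine ⟨s, hs, e, ?_⟩
  rw [IsScalarTower.algebraMap_apply A E (FractionRing E)]
  exact h

/-- An `A`-subalgebra of the total ring of fractions containing the inverses of the
non-zero-divisors of `A` is closed under inverses. -/
theorem inv_mem_of_mul_eq_one (hmin : (minimalPrimes A).Finite)
    (L : Subalgebra A (FractionRing E))
    (hL : ∀ s ∈ nonZeroDivisors A, ∃ y ∈ L, algebraMap A (FractionRing E) s * y = 1)
    (c d : FractionRing E) (hc : c ∈ L) (hcd : c * d = 1) : d ∈ L := by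
  obtain ⟨s, hs, e, he⟩ := exists_mul_eq A E hmin c
  obtain ⟨ys, hysL, hys⟩ := hL s hs
  have heL : algebraMap E (FractionRing E) e ∈ L := by
    rw [← he]
    exact L.mul_mem hc (L.algebraMap_mem s)
  rcases Groth.Agent.H8.EssEt.dichotomy A E hmin e with ⟨P, a, ha, hP⟩ | ⟨P, hP0, hP⟩
  · obtain ⟨ya, hyaL, hya⟩ := hL a ha
    have h1 : algebraMap E (FractionRing E) e * aeval (algebraMap E (FractionRing E) e) P =
        algebraMap A (FractionRing E) a := by
      rw [aeval_algebraMap_apply, ← map_mul, hP, ← IsScalarTower.algebraMap_apply]
    have hmem : aeval (algebraMap E (FractionRing E) e) P ∈ L := by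
      have := aeval_subalgebra_coe P L ⟨_, heL⟩
      rw [← this]
      exact Subtype.mem _
    have hd : d = algebraMap A (FractionRing E) s * aeval (algebraMap E (FractionRing E) e) P * ya := by
      have h2 : c * (algebraMap A (FractionRing E) s * aeval (algebraMap E (FractionRing E) e) P * ya) = 1 := by
        rw [← mul_assoc, ← mul_assoc, he, h1, hya]
      calc d = d * (c * (algebraMap A (FractionRing E) s *
            aeval (algebraMap E (FractionRing E) e) P * ya)) := by rw [h2, mul_one]
        _ = (c * d) * (algebraMap A (FractionRing E) s *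
            aeval (algebraMap E (FractionRing E) e) P * ya) := by ring
        _ = _ := by rw [hcd, one_mul]
    rw [hd]
    exact L.mul_mem (L.mul_mem (L.algebraMap_mem s) hmem) hyaL
  · exfalso
    apply hP0
    apply IsFractionRing.injective E (FractionRing E)
    rw [map_zero]
    have h1 : algebraMap E (FractionRing E) e * algebraMap E (FractionRing E) (aeval e P) = 0 := by
      rw [← map_mul, hP, map_zero]
    have h2 : (d * ys) * (algebraMap E (FractionRing E) e) = 1 := by
      rw [← he]
      calc d * ys * (c * algebraMap A (FractionRing E) s)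
          = (c * d) * (algebraMap A (FractionRing E) s * ys) := by ring
        _ = 1 := by rw [hcd, hys, one_mul]
    calc algebraMap E (FractionRing E) (aeval e P)
        = (d * ys * algebraMap E (FractionRing E) e) * algebraMap E (FractionRing E) (aeval e P) := by
          rw [h2, one_mul]
      _ = d * ys * (algebraMap E (FractionRing E) e * algebraMap E (FractionRing E) (aeval e P)) := by
          ring
      _ = 0 := by rw [h1, mul_zero]

end inv

end Groth.Agent.H5.EssEtInt
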