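import Mathlib
import Groth.Agent.Lib.Helper5.EssEtInt.EsB

set_option autoImplicit false
universe u
open scoped nonZeroDivisors
open Polynomial IsLocalRing

namespace Groth.Agent.H5.EssEtInt

section residue

variable (A E : Type u) [CommRing A] [IsLocalRing A] [CommRing E] [IsLocalRing E] [Algebra A E]
  [IsLocalHom (algebraMap A E)] [Algebra.EssFiniteType A E] [Algebra.FormallyUnramified A E]

/-- the `A`-subalgebra of integral elements -/
noncomputable abbrev E' : Subalgebra A (FractionRing E) :=
  (integralClosure E (FractionRing E)).restrictScalars A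

/-- the structure map `E → E'` -/
noncomputable def jE : E →+* E' A E :=
  (algebraMap E (FractionRing E)).codRestrict (E' A E) (fun e => isIntegral_algebraMap)

theorem jE_isIntegral : (jE A E).IsIntegral := by
  intro x
  obtain ⟨p, hp, hpx⟩ : IsIntegral E (x : FractionRing E) := x.2
  refine ⟨p, hp, ?_⟩
  apply Subtype.val_injective
  have h1 : ((E' A E).val : E' A E →+* FractionRing E).comp (jE A E) = algebraMap E (FractionRing E) := by
    ext e; rfl
  have h2 := Polynomial.hom_eval₂ p (jE A E) ((E' A E).val : E' A E →+* FractionRing E) x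
  rw [h1] at h2
  change ((E' A E).val : E' A E →+* FractionRing E) (eval₂ (jE A E) x p) = 0
  rw [h2]
  exact hpx

theorem jE_comp : (jE A E).comp (algebraMap A E) = algebraMap A (E' A E) := by
  ext a
  change algebraMap E (FractionRing E) (algebraMap A E a) = algebraMap A (FractionRing E) a
  rw [← IsScalarTower.algebraMap_apply]

variable (M : Ideal (E' A E)) [hM : M.IsMaximal]

theorem comap_jE_eq : M.comap (jE A E) = maximalIdeal E := by
  haveI := Ideal.isMaximal_comap_of_isIntegral_of_isMaximal' (jE A E) (jE_isIntegral A E) M
  exact IsLocalRing.eq_maximalIdeal this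

theorem algebraMap_mem_of_mem_maximalIdeal (a : A) (ha : a ∈ maximalIdeal A) :
    algebraMap A (E' A E) a ∈ M := by
  have h1 : algebraMap A E a ∈ maximalIdeal E := by
    rw [IsLocalRing.mem_maximalIdeal] at ha ⊢
    exact fun h => ha (isUnit_of_map_unit (algebraMap A E) a h)
  rw [← comap_jE_eq A E M, Ideal.mem_comap] at h1
  rw [← jE_comp]
  exact h1

/-- Residue fields of `E'` are algebraic over the residue field of `A`. -/
theorem exists_monic_aeval_mem (x : E' A E) : ∃ P : A[X], P.Monic ∧ aeval x P ∈ M := by
  letI : Field (E' A E ⧸ M) := Ideal.Quotient.field M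
  let π : E' A E →+* (E' A E ⧸ M) := Ideal.Quotient.mk M
  let g : E →+* (E' A E ⧸ M) := π.comp (jE A E)
  have hg : g.IsIntegral :=
    RingHom.IsIntegral.trans _ _ (jE_isIntegral A E)
      (RingHom.isIntegral_of_surjective _ Ideal.Quotient.mk_surjective)
  have hker : ∀ e : E, g e = 0 ↔ e ∈ maximalIdeal E := by
    intro e
    rw [← comap_jE_eq A E M, Ideal.mem_comap]
    exact Ideal.Quotient.eq_zero_iff_mem
  haveI : IsLocalHom g := by
    constructor
    intro e he
    by_contra hne
    have : e ∈ maximalIdeal E := hne
    rw [← hker] at this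
    rw [this] at he
    exact not_isUnit_zero he
  let gbar : ResidueField E →+* (E' A E ⧸ M) := IsLocalRing.ResidueField.lift g
  have hgbar : gbar.comp (residue E) = g := by
    ext e; rfl
  have hgbarint : gbar.IsIntegral := by
    apply RingHom.IsIntegral.tower_top (residue E) gbar
    rw [hgbar]
    exact hg
  have h1 : (algebraMap (ResidueField A) (ResidueField E)).IsIntegral :=
    algebraMap_isIntegral_iff.mpr inferInstance
  have h2 : (residue A).IsIntegral :=
    RingHom.isIntegral_of_surjective _ IsLocalRing.residue_surjective
  have h3 : (gbar.comp ((algebraMap (ResidueField A) (ResidueField E)).comp (residue A))).IsIntegral :=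
    RingHom.IsIntegral.trans _ _ (RingHom.IsIntegral.trans _ _ h2 h1) hgbarint
  have h4 : gbar.comp ((algebraMap (ResidueField A) (ResidueField E)).comp (residue A)) =
      π.comp (algebraMap A (E' A E)) := by
    rw [← jE_comp, ← RingHom.comp_assoc]
    ext a
    rfl
  rw [h4] at h3
  obtain ⟨P, hP, hPx⟩ := h3 (π x)
  refine ⟨P, hP, ?_⟩
  have h5 := Polynomial.hom_eval₂ P (algebraMap A (E' A E)) π x
  rw [← aeval_def] at h5
  rw [← Ideal.Quotient.eq_zero_iff_mem]
  change π (aeval x P) = 0
  rw [h5]
  exact hPx

/-- Elements outside a maximal ideal of `E'` are invertible modulo it by a polynomial in them. -/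
theorem exists_aeval_mul_sub_one_mem (x : E' A E) (hx : x ∉ M) :
    ∃ Q : A[X], x * aeval x Q - 1 ∈ M := by
  have key : ∀ n : ℕ, ∀ P : A[X], P.Monic → P.natDegree = n → aeval x P ∈ M →
      ∃ Q : A[X], x * aeval x Q - 1 ∈ M := by
    intro n
    induction n with
    | zero =>
      intro P hP hdeg hPx
      exfalso
      have : P = 1 := by
        rw [Polynomial.eq_C_of_natDegree_eq_zero hdeg]
        have h1 : P.coeff 0 = 1 := by
          have := hP.coeff_natDegree
          rwa [hdeg] at this
        rw [h1, map_one]
      rw [this, map_one] at hPx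
      exact hM.ne_top ((Ideal.eq_top_iff_one M).mpr hPx)
    | succ n ih =>
      intro P hP hdeg hPx
      have hdecomp := Polynomial.divX_mul_X_add P
      have hev : aeval x P = aeval x (divX P) * x + algebraMap A (E' A E) (P.coeff 0) := by
        conv_lhs => rw [← hdecomp]
        simp [aeval_C]
      by_cases hu : IsUnit (P.coeff 0)
      · obtain ⟨u, hu'⟩ := hu.exists_left_inv
        refine ⟨C (-u) * divX P, ?_⟩
        have : x * aeval x (C (-u) * divX P) - 1 = - (algebraMap A (E' A E) u) * aeval x P := by
          rw [hev, map_mul, aeval_C, map_neg]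
          have h1 : algebraMap A (E' A E) u * algebraMap A (E' A E) (P.coeff 0) = 1 := by
            rw [← map_mul, hu', map_one]
          linear_combination h1
        rw [this]
        exact M.mul_mem_left _ hPx
      · have h0 : algebraMap A (E' A E) (P.coeff 0) ∈ M :=
          algebraMap_mem_of_mem_maximalIdeal A E M _ hu
        have h1 : aeval x (divX P) * x ∈ M := by
          have := M.sub_mem hPx h0
          rwa [hev, add_sub_cancel_right] at this
        have h2 : aeval x (divX P) ∈ M :=
          (hM.isPrime.mem_or_mem h1).resolve_right hx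
        have hdeg' : (divX P).natDegree = n := by
          rw [Polynomial.natDegree_divX_eq_natDegree_tsub_one, hdeg]; rfl
        have hmon : (divX P).Monic := by
          unfold Polynomial.Monic Polynomial.leadingCoeff
          rw [hdeg', Polynomial.coeff_divX, ← hdeg]
          exact hP.coeff_natDegree
        exact ih (divX P) hmon hdeg' h2
  obtain ⟨P, hP, hPx⟩ := exists_monic_aeval_mem A E M x
  exact key _ P hP rfl hPx

end residue

end Groth.Agent.H5.EssEtInt
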