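import Mathlib
import Groth.Agent.Lib.Helper5.EssEtInt.EsC

set_option autoImplicit false
universe u
open scoped nonZeroDivisors
open Polynomial IsLocalRing

namespace Groth.Agent.H5.EssEtInt

theorem main
    (A E : Type u) [CommRing A] [IsLocalRing A] [IsReduced A] [IsNoetherianRing A]
    [CommRing E] [IsLocalRing E] [Algebra A E] [IsLocalHom (algebraMap A E)]
    (hE : EGA4loc.IsEssentiallyEtale A E) (L : Subalgebra A (FractionRing E))
    (hL : ∀ s ∈ nonZeroDivisors A, ∃ y ∈ L, algebraMap A (FractionRing E) s * y = 1)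
    (C : Subalgebra A (FractionRing E))
    (hC : C = L ⊓ (integralClosure E (FractionRing E)).restrictScalars A) :
    (∀ x ∈ L, IsIntegral C x → x ∈ C) ∧
      {N : Ideal C | N.IsMaximal}.Finite ∧
      (∀ N : Ideal C, N.IsMaximal ↔ ∃ M : Ideal ((integralClosure E (FractionRing E)).restrictScalars A),
          M.IsMaximal ∧ N = M.comap (Subalgebra.inclusion (hC.trans_le inf_le_right))) ∧
      ∀ l ∈ L, ∃ c ∈ C, ∃ s ∈ nonZeroDivisors A, ∃ y ∈ L,
        algebraMap A (FractionRing E) s * y = 1 ∧ l = c * y := by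
  classical
  subst hC
  haveI : Module.Flat A E := Groth.Agent.H8.EssEt.flat hE
  haveI : Algebra.EssFiniteType A E := Groth.Agent.H8.EssEt.essFiniteType hE
  haveI : Algebra.FormallyUnramified A E := Groth.Agent.H8.EssEt.formallyUnramified hE
  haveI : IsNoetherianRing E := isNoetherianRing_of_essEtale hE
  haveI : IsReduced E := isReduced_of_essEtale hE
  have hmin : (minimalPrimes A).Finite := minimalPrimes.finite_of_isNoetherianRing A
  let K := FractionRing E
  let incl : ↥(L ⊓ E' A E) →ₐ[A] ↥(E' A E) := Subalgebra.inclusion inf_le_right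
  have hfinMax : {M : Ideal (E' A E) | M.IsMaximal}.Finite := finite_maximal_integralClosure E
  -- (3 ⇐)
  have hback : ∀ M : Ideal (E' A E), M.IsMaximal → (M.comap incl).IsMaximal := by
    intro M hM
    haveI := hM
    rw [Ideal.isMaximal_iff]
    refine ⟨?_, ?_⟩
    · intro h1
      rw [Ideal.mem_comap, map_one] at h1
      exact hM.ne_top ((Ideal.eq_top_iff_one M).mpr h1)
    · intro J x hJ hxN hxJ
      have hx : incl x ∉ M := hxN
      obtain ⟨Q, hQ⟩ := exists_aeval_mul_sub_one_mem A E M (incl x) hx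
      have h1 : x * aeval x Q - 1 ∈ M.comap incl := by
        rw [Ideal.mem_comap, map_sub, map_mul, map_one, ← aeval_algHom_apply]
        exact hQ
      have h2 : x * aeval x Q ∈ J := J.mul_mem_right _ hxJ
      have h3 := J.sub_mem h2 (hJ h1)
      rwa [sub_sub_cancel] at h3
  -- units
  have hunit : ∀ c : ↥(L ⊓ E' A E), IsUnit (incl c) → IsUnit c := by
    intro c hc
    obtain ⟨d, hd⟩ := hc.exists_right_inv
    have hcd : (c : K) * (d : K) = 1 := by
      have := congrArg Subtype.val hd
      exact this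
    have hdL : (d : K) ∈ L :=
      inv_mem_of_mul_eq_one A E hmin L hL (c : K) (d : K) c.2.1 hcd
    refine IsUnit.of_mul_eq_one ⟨(d : K), ⟨hdL, d.2⟩⟩ ?_
    apply Subtype.ext
    exact hcd
  -- (3 ⇒)
  have hforw : ∀ N : Ideal ↥(L ⊓ E' A E), N.IsMaximal →
      ∃ M : Ideal (E' A E), M.IsMaximal ∧ N = M.comap incl := by
    intro N hN
    by_contra hcon
    push Not at hcon
    have hnle : ∀ M ∈ hfinMax.toFinset, ¬ N ≤ M.comap incl := by
      intro M hM hle
      have hM' : M.IsMaximal := by simpa using hM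
      have := hback M hM'
      exact hcon M hM' (hN.eq_of_le this.ne_top hle)
    have havoid : ¬ ((N : Set ↥(L ⊓ E' A E)) ⊆
        ⋃ M ∈ (hfinMax.toFinset : Set (Ideal (E' A E))), (M.comap incl : Set _)) := by
      intro hsub
      obtain ⟨M, hM, hle⟩ := (Ideal.subset_union_prime (s := hfinMax.toFinset)
        (f := fun M => M.comap incl) ⊥ ⊥ (fun M hM _ _ => by
          have hM' : M.IsMaximal := by simpa using hM
          haveI := hM'.isPrime
          exact Ideal.comap_isPrime incl M)).mp hsub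
      exact hnle M hM hle
    rw [Set.not_subset] at havoid
    obtain ⟨c, hcN, hc⟩ := havoid
    have hcu : IsUnit (incl c) := by
      by_contra hnu
      obtain ⟨M, hM, hcM⟩ := exists_max_ideal_of_mem_nonunits hnu
      apply hc
      simp only [Set.mem_iUnion]
      exact ⟨M, by simpa using hM, hcM⟩
    exact hN.ne_top (Ideal.eq_top_of_isUnit_mem N hcN (hunit c hcu))
  refine ⟨?_, ?_, ?_, ?_⟩
  · -- (1)
    intro x hxL hx
    refine ⟨hxL, ?_⟩
    obtain ⟨p, hp, hpx⟩ := hx
    let ι : ↥(L ⊓ E' A E) →+* integralClosure E K :=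
      (incl : ↥(L ⊓ E' A E) →+* ↥(E' A E))
    have h1 : IsIntegral (integralClosure E K) x := by
      refine ⟨p.map ι, hp.map ι, ?_⟩
      rw [Polynomial.eval₂_map]
      exact hpx
    exact isIntegral_trans x h1
  · -- (2)
    refine (hfinMax.image (fun M => M.comap incl)).subset ?_
    intro N hN
    obtain ⟨M, hM, rfl⟩ := hforw N hN
    exact ⟨M, hM, rfl⟩
  · -- (3)
    intro N
    constructor
    · intro hN
      exact hforw N hN
    · rintro ⟨M, hM, rfl⟩
      exact hback M hM
  · -- (4)
    intro l hl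
    obtain ⟨s, hs, e, he⟩ := exists_mul_eq A E hmin l
    obtain ⟨y, hyL, hy⟩ := hL s hs
    refine ⟨algebraMap E K e, ⟨?_, isIntegral_algebraMap⟩, s, hs, y, hyL, hy, ?_⟩
    · rw [← he]
      exact L.mul_mem hl (L.algebraMap_mem s)
    · rw [← he, mul_assoc, hy, mul_one]

end Groth.Agent.H5.EssEtInt
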